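-- Team project OTS (S5972): odd-dimensional orthogonal groups and totally singular m-spaces.
-- Interface file: definitions and the package statements (helper35).
import Mathlib
import Cfsg.Prelude.Def_GeometricClasses
import Cfsg.Prelude.Def_Classical
import Cfsg.Agent.Lib.Helper23.OHyp.Defs
import Cfsg.Agent.Lib.Helper27.OHyp.BlkDefs

set_option autoImplicit false
open scoped MatrixGroups
open Matrix

namespace Cfsg.Agent.Lib.Helper35.OTS

open Cfsg.Agent.Lib.Helper23.OHyp

universe u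

section defs

variable {F : Type u} [Field F] {ι : Type} [Fintype ι] [DecidableEq ι]

/-- `Q` vanishes on `W` (`W` is totally singular). -/
def TS (Q : (ι → F) → F) (W : Submodule F (ι → F)) : Prop := ∀ w ∈ W, Q w = 0

/-- `A` contains no nonzero `x`-invariant totally singular subspace. -/
def Aniso (Q : (ι → F) → F) (x : Matrix ι ι F) (A : Submodule F (ι → F)) : Prop :=
  ∀ W : Submodule F (ι → F), W ≤ A → Inv x W → TS Q W → W = ⊥

end defs

/-- [TSZ] the number of singular vectors orthogonal to a totally singular `j`-space. -/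
def PkgTsZ : Prop :=
  ∀ (F : Type u) [Field F] [Fintype F], (2 : F) ≠ 0 → ∀ (d j : ℕ)
    (W : Submodule F (Unit ⊕ (Fin d ⊕ Fin d) → F)), Module.finrank F ↥W = j →
    (∀ w ∈ W, Cfsg.quadFormOdd d F w = 0) →
    Nat.card {v : Unit ⊕ (Fin d ⊕ Fin d) → F //
        (∀ w ∈ W, QuadraticMap.polar (Cfsg.quadFormOdd d F) w v = 0) ∧
          Cfsg.quadFormOdd d F v = 0} = Fintype.card F ^ (2 * d - j)

/-- [TSCNT] the number of totally singular `m`-spaces, through their ordered bases. -/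
def PkgTsCnt : Prop :=
  ∀ (F : Type u) [Field F] [Fintype F], (2 : F) ≠ 0 → ∀ (d m : ℕ), m ≤ d →
    Nat.card {W : Submodule F (Unit ⊕ (Fin d ⊕ Fin d) → F) //
        Module.finrank F ↥W = m ∧ (∀ w ∈ W, Cfsg.quadFormOdd d F w = 0)} *
      ∏ j : Fin m, (Fintype.card F ^ m - Fintype.card F ^ j.val) =
    ∏ i ∈ Finset.range m, (Fintype.card F ^ (2 * d - i) - Fintype.card F ^ i)

/-- [INVLT] an involution of the isometry group fixes a totally singular `m`-space, `m < d`. -/
def PkgInvLt : Prop :=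
  ∀ (F : Type u) [Field F] [Fintype F] (ι : Type) [Fintype ι] [DecidableEq ι]
    (Q : (ι → F) → F), Cfsg.Geo.IsNondegenerateQuadraticForm Q → (2 : F) ≠ 0 →
    ∀ x : GL ι F, x ∈ Cfsg.isometryGroup F Q → x ^ 2 = 1 →
    ∀ d m : ℕ, Fintype.card ι = 2 * d + 1 → m < d →
      ∃ W : Submodule F (ι → F), Module.finrank F W = m ∧ TS Q W ∧
        Inv (x : Matrix ι ι F) W

/-- [INVEQ] `q ≡ 1 (mod 4)`: an involution of `Ω` fixes a totally singular `d`-space. -/
def PkgInvEq : Prop :=
  ∀ (F : Type u) [Field F] [Fintype F] (ι : Type) [Fintype ι] [DecidableEq ι]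
    (Q : (ι → F) → F), Cfsg.Geo.IsNondegenerateQuadraticForm Q → Fintype.card F % 4 = 1 →
    ∀ x : GL ι F, x ∈ Cfsg.Geo.omegaGL Q → x ^ 2 = 1 →
    ∀ d : ℕ, Fintype.card ι = 2 * d + 1 →
      ∃ W : Submodule F (ι → F), Module.finrank F W = d ∧ TS Q W ∧
        Inv (x : Matrix ι ι F) W

/-- [INVNE] `q ≡ 3 (mod 4)`: an involution of `Ω` fixing no totally singular `d`-space. -/
def PkgInvNe : Prop :=
  ∀ (F : Type u) [Field F] [Fintype F], Fintype.card F % 4 = 3 → ∀ d : ℕ, 1 ≤ d →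
    ∃ x : GL (Unit ⊕ (Fin d ⊕ Fin d)) F, x ∈ Cfsg.Geo.omegaGL (Cfsg.quadFormOdd d F) ∧
      orderOf x = 2 ∧
      ¬ ∃ W : Submodule F (Unit ⊕ (Fin d ⊕ Fin d) → F), Module.finrank F W = d ∧
        TS (Cfsg.quadFormOdd d F) W ∧
        Inv (x : Matrix (Unit ⊕ (Fin d ⊕ Fin d)) (Unit ⊕ (Fin d ⊕ Fin d)) F) W

/-- [WSPLIT] an invariant subspace splits along `fixSp x` and `movSp x`. -/
def PkgWSplit : Prop :=
  ∀ (F : Type u) [Field F] [Fintype F] (ι : Type) [Fintype ι] [DecidableEq ι]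
    (Q : (ι → F) → F) (r : ℕ) (x : Matrix ι ι F), Std Q r x →
    ∀ W : Submodule F (ι → F), Inv x W →
      Inv x (W ⊓ movSp x) ∧
      Module.finrank F W = Module.finrank F ↥(W ⊓ fixSp x) + Module.finrank F ↥(W ⊓ movSp x)

/-- [LADDER] invariant subspaces of the moved space: dimensions are multiples of `i`, and every
multiple of `i` below occurs. -/
def PkgLadder : Prop :=
  ∀ (F : Type u) [Field F] [Fintype F] (ι : Type) [Fintype ι] [DecidableEq ι]
    (Q : (ι → F) → F) (r : ℕ) (x : Matrix ι ι F), Std Q r x →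
    ∀ W : Submodule F (ι → F), W ≤ movSp x → Inv x W →
      ordI (Fintype.card F) r ∣ Module.finrank F W ∧
      ∀ j : ℕ, ordI (Fintype.card F) r * j ≤ Module.finrank F W →
        ∃ W₁ : Submodule F (ι → F), W₁ ≤ W ∧ Inv x W₁ ∧
          Module.finrank F W₁ = ordI (Fintype.card F) r * j

/-- [TSHALF] a totally singular subspace of a nondegenerate subspace has at most half its
dimension. -/
def PkgTsHalf : Prop :=
  ∀ (F : Type u) [Field F] (ι : Type) [Fintype ι] [DecidableEq ι]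
    (Q : (ι → F) → F), Cfsg.Geo.IsNondegenerateQuadraticForm Q →
    ∀ C W : Submodule F (ι → F), Nd Q C → W ≤ C → TS Q W →
      2 * Module.finrank F W ≤ Module.finrank F C

/-- [ANISO] the moved space is `W₀ ⊕ W₀' ⊕ A`: `W₀` invariant totally singular, `A` invariant
nondegenerate without invariant totally singular subspaces, `dim = 2 dim W₀ + dim A`. -/
def PkgAniso : Prop :=
  ∀ (F : Type u) [Field F] [Fintype F] (ι : Type) [Fintype ι] [DecidableEq ι]
    (Q : (ι → F) → F) (r : ℕ) (x : Matrix ι ι F), Std Q r x →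
    ∃ W₀ A : Submodule F (ι → F), W₀ ≤ movSp x ∧ A ≤ movSp x ∧ Inv x W₀ ∧ Inv x A ∧
      TS Q W₀ ∧ Nd Q A ∧ Aniso Q x A ∧
      Module.finrank F (movSp x) = 2 * Module.finrank F W₀ + Module.finrank F A

/-- [ANODD] `i` odd: the anisotropic part is zero. -/
def PkgAnOdd : Prop :=
  ∀ (F : Type u) [Field F] [Fintype F] (ι : Type) [Fintype ι] [DecidableEq ι]
    (Q : (ι → F) → F) (r : ℕ) (x : Matrix ι ι F), Std Q r x →
    Odd (ordI (Fintype.card F) r) →
    ∀ A : Submodule F (ι → F), A ≤ movSp x → Inv x A → Nd Q A → Aniso Q x A → A = ⊥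

/-- [ISO2] `i` even: two orthogonal minimal invariant subspaces of the moved space with a third
invariant subspace `Γ` of their sum meeting both trivially (the graph of an equivariant
isomorphism): the sum contains a nonzero invariant totally singular subspace. -/
def PkgIso2 : Prop :=
  ∀ (F : Type u) [Field F] [Fintype F] (ι : Type) [Fintype ι] [DecidableEq ι]
    (Q : (ι → F) → F) (r : ℕ) (x : Matrix ι ι F), Std Q r x →
    Even (ordI (Fintype.card F) r) →
    ∀ U U' Γ : Submodule F (ι → F), U ≤ movSp x → U' ≤ movSp x →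
      Cfsg.Agent.Lib.Helper27.OHyp.Min x U → Cfsg.Agent.Lib.Helper27.OHyp.Min x U' →
      Perp Q U U' → Inv x Γ → Γ ≤ U ⊔ U' → Γ ≠ ⊥ → Γ ⊓ U = ⊥ → Γ ⊓ U' = ⊥ →
      ∃ W : Submodule F (ι → F), W ≤ U ⊔ U' ∧ W ≠ ⊥ ∧ Inv x W ∧ TS Q W

/-- [ANEVEN] `i` even: the anisotropic part is multiplicity free, of dimension at most `r - 1`. -/
def PkgAnEven : Prop :=
  ∀ (F : Type u) [Field F] [Fintype F] (ι : Type) [Fintype ι] [DecidableEq ι]
    (Q : (ι → F) → F) (r : ℕ) (x : Matrix ι ι F), Std Q r x →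
    Even (ordI (Fintype.card F) r) →
    ∀ A : Submodule F (ι → F), A ≤ movSp x → Inv x A → Nd Q A → Aniso Q x A →
      Module.finrank F A ≤ r - 1

/-- [EXSQF] `i` even: an isometry of order `r` whose moved space has dimension `i * a`
(`1 ≤ a ≤ (r - 1) / i`) and contains no nonzero invariant totally singular subspace. -/
def PkgExSqf : Prop :=
  ∀ (F : Type u) [Field F] [Fintype F] (ι : Type) [Fintype ι] [DecidableEq ι]
    (Q : (ι → F) → F), Cfsg.Geo.IsNondegenerateQuadraticForm Q → (2 : F) ≠ 0 →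
    Odd (Fintype.card ι) →
    ∀ (r : ℕ), r.Prime → r ≠ 2 → ¬ r ∣ Fintype.card F → Even (ordI (Fintype.card F) r) →
    ∀ (a : ℕ), 1 ≤ a → a ≤ (r - 1) / ordI (Fintype.card F) r →
      ordI (Fintype.card F) r * a + 1 ≤ Fintype.card ι →
      ∃ x : GL ι F, x ∈ Cfsg.isometryGroup F Q ∧ orderOf x = r ∧
        Module.finrank F (fixSp (x : Matrix ι ι F)) + ordI (Fintype.card F) r * a =
          Fintype.card ι ∧
        Aniso Q (x : Matrix ι ι F) (movSp (x : Matrix ι ι F))

end Cfsg.Agent.Lib.Helper35.OTS
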