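-- Team project OTS (S5972): assembly of the packages (helper35).
import Cfsg.Agent.Lib.Helper35.OTS.Defs
import Cfsg.Agent.Lib.Helper23.OHyp.Asm
import Cfsg.Agent.Lib.Helper40.Elusive2

set_option autoImplicit false
open scoped MatrixGroups
open Matrix

namespace Cfsg.Agent.Lib.Helper35.OTS

open Cfsg.Agent.Lib.Helper23.OHyp Cfsg.Agent.Lib.Helper40

universe u

/-! ### Counting -/

section count

variable {F : Type u} [Field F] [Fintype F]

theorem ts_card_mul (hCnt : PkgTsCnt.{u}) (h2 : (2 : F) ≠ 0) (d m : ℕ) (hm : m ≤ d) :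
    Nat.card {W : Submodule F (Unit ⊕ (Fin d ⊕ Fin d) → F) //
        Module.finrank F ↥W = m ∧ (∀ w ∈ W, Cfsg.quadFormOdd d F w = 0)} *
      Elusive.Q (Fintype.card F) m m =
    ∏ j ∈ Finset.range m, (Fintype.card F ^ (2 * (d - j)) - 1) := by
  have hq : 2 ≤ Fintype.card F := Fintype.one_lt_card
  have h1 := hCnt F h2 d m hm
  rw [Elusive.prod_li _ _ _ le_rfl] at h1
  have h2' : ∏ i ∈ Finset.range m, (Fintype.card F ^ (2 * d - i) - Fintype.card F ^ i) =
      (∏ j ∈ Finset.range m, Fintype.card F ^ j) *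
        ∏ j ∈ Finset.range m, (Fintype.card F ^ (2 * (d - j)) - 1) := by
    rw [← Finset.prod_mul_distrib]
    apply Finset.prod_congr rfl
    intro j hj
    have hj' := Finset.mem_range.1 hj
    rw [Nat.mul_sub, mul_one, ← pow_add]
    congr 2
    omega
  rw [h2', ← mul_assoc, mul_comm (Nat.card _), mul_assoc] at h1
  have h4 : 0 < ∏ j ∈ Finset.range m, Fintype.card F ^ j :=
    Finset.prod_pos (fun j _ => Nat.pow_pos (by omega))
  exact Nat.eq_of_mul_eq_mul_left h4 h1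

/-- The characteristic does not divide the number of totally singular `m`-spaces. -/
theorem not_char_dvd_ts (hCnt : PkgTsCnt.{u}) (h2 : (2 : F) ≠ 0) (p : ℕ) [Fact p.Prime]
    [CharP F p] (d m : ℕ) (hm : m ≤ d) :
    ¬ p ∣ Nat.card {W : Submodule F (Unit ⊕ (Fin d ⊕ Fin d) → F) //
        Module.finrank F ↥W = m ∧ (∀ w ∈ W, Cfsg.quadFormOdd d F w = 0)} := by
  intro h
  have hp : p.Prime := Fact.out
  have hq : 2 ≤ Fintype.card F := Fintype.one_lt_card
  have h1 : p ∣ ∏ j ∈ Finset.range m, (Fintype.card F ^ (2 * (d - j)) - 1) := by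
    rw [← ts_card_mul hCnt h2 d m hm]
    exact Dvd.dvd.mul_right h _
  obtain ⟨j, hj, hj2⟩ := (Prime.dvd_finsetProd_iff hp.prime _).1 h1
  have hj' := Finset.mem_range.1 hj
  have h2' : p ∣ Fintype.card F ^ (2 * (d - j)) :=
    dvd_pow (Elusive.char_dvd_card p) (by omega)
  have h3 : 1 ≤ Fintype.card F ^ (2 * (d - j)) := Nat.one_le_pow _ _ (by omega)
  have h4 : p ∣ 1 := by
    have := Nat.dvd_sub h2' hj2
    rwa [Nat.sub_sub_self h3] at this
  exact hp.one_lt.ne' (Nat.dvd_one.1 h4)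

/-- A prime dividing the number of totally singular `m`-spaces. -/
theorem exists_of_dvd_ts (hCnt : PkgTsCnt.{u}) (h2 : (2 : F) ≠ 0) (r : ℕ) [Fact r.Prime]
    (d m : ℕ) (hm : m ≤ d)
    (h : r ∣ Nat.card {W : Submodule F (Unit ⊕ (Fin d ⊕ Fin d) → F) //
        Module.finrank F ↥W = m ∧ (∀ w ∈ W, Cfsg.quadFormOdd d F w = 0)}) :
    ∃ j, j < m ∧ orderOf ((Fintype.card F : ℕ) : ZMod r) ∣ 2 * (d - j) := by
  have hr : r.Prime := Fact.out
  have hq : 2 ≤ Fintype.card F := Fintype.one_lt_card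
  have h1 : r ∣ ∏ j ∈ Finset.range m, (Fintype.card F ^ (2 * (d - j)) - 1) := by
    rw [← ts_card_mul hCnt h2 d m hm]
    exact Dvd.dvd.mul_right h _
  obtain ⟨j, hj, hj2⟩ := (Prime.dvd_finsetProd_iff hr.prime _).1 h1
  exact ⟨j, Finset.mem_range.1 hj, (Elusive.dvd_pow_sub_one_iff _ r (by omega) _).1 hj2⟩

/-- If `2 m < (2 d + 1) mod c`, the prime `r` does not divide the number of totally singular
`m`-spaces. -/
theorem not_dvd_ts_of_lt (hCnt : PkgTsCnt.{u}) (h2 : (2 : F) ≠ 0) (r : ℕ) [Fact r.Prime]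
    (hrq : ¬ r ∣ Fintype.card F)
    (d m : ℕ) (hm : m ≤ d) (hlt : 2 * m < (2 * d + 1) % cc (Fintype.card F) r) :
    ¬ r ∣ Nat.card {W : Submodule F (Unit ⊕ (Fin d ⊕ Fin d) → F) //
        Module.finrank F ↥W = m ∧ (∀ w ∈ W, Cfsg.quadFormOdd d F w = 0)} := by
  intro h
  have hr : r.Prime := Fact.out
  obtain ⟨j, hjm, hdvd⟩ := exists_of_dvd_ts hCnt h2 r d m hm h
  have hipos : 0 < ordI (Fintype.card F) r := ordI_pos hr hrq
  have hcpos : 0 < cc (Fintype.card F) r := cc_pos hipos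
  have hcdvd : cc (Fintype.card F) r ∣ 2 * (d - j) := by
    rcases Nat.even_or_odd (ordI (Fintype.card F) r) with he | ho
    · rw [cc_eq_of_even he]; exact hdvd
    · rw [cc_eq_of_odd ho]
      have hcop : Nat.Coprime (ordI (Fintype.card F) r) 2 := by
        rw [Nat.coprime_comm, Nat.Prime.coprime_iff_not_dvd Nat.prime_two]
        intro h2dvd
        obtain ⟨t, ht⟩ := ho
        omega
      exact Nat.mul_dvd_mul_left 2 (hcop.dvd_of_dvd_mul_left hdvd)
  obtain ⟨E, hE⟩ := hcdvd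
  have hmod := Nat.div_add_mod (2 * d + 1) (cc (Fintype.card F) r)
  have hklt : (2 * d + 1) % cc (Fintype.card F) r < cc (Fintype.card F) r := Nat.mod_lt _ hcpos
  have hEle : E ≤ (2 * d + 1) / cc (Fintype.card F) r := by
    rw [Nat.le_div_iff_mul_le hcpos, mul_comm]
    omega
  have h3 : cc (Fintype.card F) r * E ≤
      cc (Fintype.card F) r * ((2 * d + 1) / cc (Fintype.card F) r) :=
    Nat.mul_le_mul_left _ hEle
  omega

end count

/-! ### The positive direction for odd `r` -/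

section
variable {F : Type u} [Field F] [Fintype F] {ι : Type} [Fintype ι] [DecidableEq ι]

theorem ts_sup {Q : (ι → F) → F} {C N U W₁ : Submodule F (ι → F)} (hPerp : Perp Q C N)
    (hU : U ≤ C) (hW : W₁ ≤ N) (hUts : TS Q U) (hWts : TS Q W₁) : TS Q (U ⊔ W₁) := by
  intro w hw
  obtain ⟨u, hu, v, hv, rfl⟩ := Submodule.mem_sup.1 hw
  have h1 : QuadraticMap.polar Q u v = 0 := hPerp u (hU hu) v (hW hv)
  have h2 : QuadraticMap.polar Q u v = Q (u + v) - Q u - Q v := rfl
  rw [hUts u hu, hWts v hv, sub_zero, sub_zero] at h2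
  rw [← h2, h1]

theorem order_dvd_pred {q r : ℕ} (hr : r.Prime) (hrq : ¬ r ∣ q) : ordI q r ∣ r - 1 := by
  have : Fact r.Prime := ⟨hr⟩
  unfold ordI
  apply orderOf_dvd_of_pow_eq_one
  apply ZMod.pow_card_sub_one_eq_one
  rwa [Ne, ZMod.natCast_eq_zero_iff]

theorem fix_of (hSplit : PkgSplit.{u}) (hGeom : PkgGeom.{u}) (hLad : PkgLadder.{u})
    (hAn : PkgAniso.{u}) (hAnO : PkgAnOdd.{u}) (hAnE : PkgAnEven.{u})
    (Q : (ι → F) → F) (r : ℕ) (x : Matrix ι ι F) (hS : Std Q r x)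
    (d m : ℕ) (hn : Fintype.card ι = 2 * d + 1) (hmd : m ≤ d)
    (hlk : 2 * (m % ordI (Fintype.card F) r) < (2 * d + 1) % cc (Fintype.card F) r)
    (hlast : Odd (ordI (Fintype.card F) r) ∨
      (r - 1) / ordI (Fintype.card F) r + 2 * (m / ordI (Fintype.card F) r) ≤
        (2 * d + 1) / ordI (Fintype.card F) r) :
    ∃ W : Submodule F (ι → F), Module.finrank F W = m ∧ TS Q W ∧ Inv x W := by
  have hipos : 0 < ordI (Fintype.card F) r := ordI_pos hS.prime hS.ndvd
  have hcpos : 0 < cc (Fintype.card F) r := cc_pos hipos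
  obtain ⟨hNdC, hNdN, hPerp, hCompl, hInvN, -⟩ := hSplit F ι Q r x hS
  have hdim : Module.finrank F (fixSp x) + Module.finrank F (movSp x) = 2 * d + 1 := by
    rw [Submodule.finrank_add_eq_of_isCompl hCompl, Module.finrank_fintype_fun_eq_card, hn]
  obtain ⟨W₀, A, hW₀N, hAN, hW₀inv, hAinv, hW₀ts, hAnd, hAan, hdimN⟩ := hAn F ι Q r x hS
  obtain ⟨⟨j0, hj0⟩, hdown⟩ := hLad F ι Q r x hS W₀ hW₀N hW₀inv
  obtain ⟨⟨jN, hjN⟩, -⟩ := hLad F ι Q r x hS (movSp x) le_rfl hInvN
  -- `c` divides the dimension of the moved space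
  have hcN : ∃ J', Module.finrank F (movSp x) = cc (Fintype.card F) r * J' := by
    rcases Nat.even_or_odd (ordI (Fintype.card F) r) with he | ho
    · exact ⟨jN, by rw [cc_eq_of_even he]; exact hjN⟩
    · have hA0 : A = ⊥ := hAnO F ι Q r x hS ho A hAN hAinv hAnd hAan
      refine ⟨j0, ?_⟩
      rw [cc_eq_of_odd ho, hdimN, hA0, finrank_bot, hj0]
      ring
  obtain ⟨J', hJ'⟩ := hcN
  have hmodn := Nat.div_add_mod (2 * d + 1) (cc (Fintype.card F) r)
  have hCk : (2 * d + 1) % cc (Fintype.card F) r ≤ Module.finrank F (fixSp x) := by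
    have hJle : J' ≤ (2 * d + 1) / cc (Fintype.card F) r := by
      rw [Nat.le_div_iff_mul_le hcpos, mul_comm]
      omega
    have h3 : cc (Fintype.card F) r * J' ≤
        cc (Fintype.card F) r * ((2 * d + 1) / cc (Fintype.card F) r) :=
      Nat.mul_le_mul_left _ hJle
    omega
  have hmodm := Nat.div_add_mod m (ordI (Fintype.card F) r)
  have hjle : ordI (Fintype.card F) r * min (m / ordI (Fintype.card F) r) j0 ≤
      Module.finrank F W₀ := by
    rw [hj0]; exact Nat.mul_le_mul_left _ (min_le_right _ _)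
  have hjm : ordI (Fintype.card F) r * min (m / ordI (Fintype.card F) r) j0 ≤ m :=
    (Nat.mul_le_mul_left _ (min_le_left _ _)).trans (Nat.mul_div_le m _)
  obtain ⟨W₁, hW₁le, hW₁inv, hW₁dim⟩ := hdown _ hjle
  have hs : 2 * (m - ordI (Fintype.card F) r * min (m / ordI (Fintype.card F) r) j0) + 1 ≤
      Module.finrank F (fixSp x) := by
    rcases le_total (m / ordI (Fintype.card F) r) j0 with h | h
    · rw [min_eq_left h]
      rw [min_eq_left h] at hjm
      omega
    · rw [min_eq_right h]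
      rw [min_eq_right h] at hjm
      rcases Nat.even_or_odd (ordI (Fintype.card F) r) with he | ho
      · have hAle : Module.finrank F A ≤ r - 1 := hAnE F ι Q r x hS he A hAN hAinv hAnd hAan
        rcases hlast with ho | hle
        · exact absurd he (Nat.not_even_iff_odd.mpr ho)
        · obtain ⟨t, ht⟩ := order_dvd_pred hS.prime hS.ndvd
          have ht' : (r - 1) / ordI (Fintype.card F) r = t := by
            rw [ht]; exact Nat.mul_div_cancel_left t hipos
          rw [ht'] at hle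
          have h1 := Nat.mul_le_mul_left (ordI (Fintype.card F) r) hle
          rw [Nat.mul_add, ← mul_assoc, mul_comm (ordI (Fintype.card F) r) 2, mul_assoc] at h1
          have hmodn' := Nat.div_add_mod (2 * d + 1) (ordI (Fintype.card F) r)
          rw [cc_eq_of_even he] at hlk
          omega
      · have hA0 : A = ⊥ := hAnO F ι Q r x hS ho A hAN hAinv hAnd hAan
        rw [hA0, finrank_bot] at hdimN
        omega
  obtain ⟨P, hPle, -, hPdim, hPplus⟩ := hGeom F ι Q hS.nondeg hS.two (fixSp x) hNdC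
    (2 * (m - ordI (Fintype.card F) r * min (m / ordI (Fintype.card F) r) j0)) True
    (even_two_mul _) hs (fun _ => trivial)
  obtain ⟨U, hUle, hUts, hUdim⟩ := hPplus.mpr trivial
  have hUC : U ≤ fixSp x := hUle.trans hPle
  have hW₁N : W₁ ≤ movSp x := hW₁le.trans hW₀N
  refine ⟨U ⊔ W₁, ?_, ts_sup hPerp hUC hW₁N hUts (fun w hw => hW₀ts w (hW₁le hw)),
    inv_sup hUC hW₁inv⟩
  have hinf : U ⊓ W₁ = ⊥ := by
    rw [eq_bot_iff]
    exact (inf_le_inf hUC hW₁N).trans (le_of_eq hCompl.inf_eq_bot)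
  have h5 := Submodule.finrank_sup_add_finrank_inf_eq U W₁
  rw [hinf, finrank_bot, add_zero] at h5
  rw [h5, hW₁dim]
  omega

/-! ### The negative direction for odd `r` -/

theorem std_of {Q : (ι → F) → F} (hQ : Cfsg.Geo.IsNondegenerateQuadraticForm Q)
    (h2 : (2 : F) ≠ 0) {r : ℕ} (hr : r.Prime) (hr2 : r ≠ 2) (hrq : ¬ r ∣ Fintype.card F)
    (hrF : (r : F) ≠ 0) {x : GL ι F} (hxiso : x ∈ Cfsg.isometryGroup F Q) (hxord : orderOf x = r) :
    Std Q r (x : Matrix ι ι F) := by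
  have hpow : (x : Matrix ι ι F) ^ r = 1 := by
    have h := pow_orderOf_eq_one x
    rw [hxord] at h
    rw [← Units.val_pow_eq_pow_val, h]; rfl
  exact ⟨hQ, h2, hr, hr2, hrq, hrF, hpow, isom_of_mem hxiso⟩

/-- (D1) `k ≤ 2 ℓ`: the element with the smallest fixed space. -/
theorem der1_of (hSplit : PkgSplit.{u}) (hExist : PkgExist.{u}) (hOddOmega : PkgOddOmega.{u})
    (hWS : PkgWSplit.{u}) (hLad : PkgLadder.{u}) (hHalf : PkgTsHalf.{u})
    (Q : (ι → F) → F) (hQ : Cfsg.Geo.IsNondegenerateQuadraticForm Q) (h2 : (2 : F) ≠ 0)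
    (r : ℕ) (hr : r.Prime) (hr2 : r ≠ 2) (hrq : ¬ r ∣ Fintype.card F) (hrF : (r : F) ≠ 0)
    (d m : ℕ) (hn : Fintype.card ι = 2 * d + 1) (hmd : m ≤ d)
    (hcase : (2 * d + 1) % cc (Fintype.card F) r ≤ 2 * (m % ordI (Fintype.card F) r)) :
    ∃ x : GL ι F, x ∈ Cfsg.Geo.omegaGL Q ∧ orderOf x = r ∧
      ¬ ∃ W : Submodule F (ι → F), Module.finrank F W = m ∧ TS Q W ∧
        Inv (x : Matrix ι ι F) W := by
  have hipos : 0 < ordI (Fintype.card F) r := ordI_pos hr hrq
  have hcpos : 0 < cc (Fintype.card F) r := cc_pos hipos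
  have hnodd : Odd (Fintype.card ι) := by rw [hn]; exact ⟨d, rfl⟩
  have hkodd : Odd ((2 * d + 1) % cc (Fintype.card F) r) := by
    rw [← hn]; exact mod_cc_odd hnodd
  have hmodn := Nat.div_add_mod (2 * d + 1) (cc (Fintype.card F) r)
  have hmodm := Nat.div_add_mod m (ordI (Fintype.card F) r)
  have hmle : m % ordI (Fintype.card F) r ≤ m := Nat.mod_le _ _
  have hcn : cc (Fintype.card F) r ≤ 2 * d + 1 := by
    by_contra hlt
    push Not at hlt
    rw [Nat.mod_eq_of_lt hlt] at hcase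
    omega
  have hJ1 : 1 ≤ (2 * d + 1) / cc (Fintype.card F) r := Nat.div_pos hcn hcpos
  have hk1 : 1 ≤ (2 * d + 1) % cc (Fintype.card F) r := by
    obtain ⟨t, ht⟩ := hkodd; omega
  obtain ⟨x, hxiso, hxord, hxfix⟩ := hExist F ι Q hQ h2 hnodd r hr hr2 hrq
    ((2 * d + 1) / cc (Fintype.card F) r) hJ1 (by rw [hn]; omega)
  have hrodd : Odd r := hr.odd_of_ne_two hr2
  have hxΩ := hOddOmega F ι Q hQ h2 x hxiso (by rw [hxord]; exact hrodd)
  refine ⟨x, hxΩ, hxord, ?_⟩
  rintro ⟨W, hWdim, hWts, hWinv⟩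
  have hS : Std Q r (x : Matrix ι ι F) := std_of hQ h2 hr hr2 hrq hrF hxiso hxord
  obtain ⟨hNdC, -, -, -, -, -⟩ := hSplit F ι Q r (x : Matrix ι ι F) hS
  obtain ⟨hWNinv, hWsplit⟩ := hWS F ι Q r (x : Matrix ι ι F) hS W hWinv
  obtain ⟨⟨b, hb⟩, -⟩ := hLad F ι Q r (x : Matrix ι ι F) hS (W ⊓ movSp (x : Matrix ι ι F))
    inf_le_right hWNinv
  have hhalf := hHalf F ι Q hQ (fixSp (x : Matrix ι ι F)) (W ⊓ fixSp (x : Matrix ι ι F)) hNdC
    inf_le_right (fun w hw => hWts w hw.1)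
  have hfixk : Module.finrank F (fixSp (x : Matrix ι ι F)) =
      (2 * d + 1) % cc (Fintype.card F) r := by
    rw [hn] at hxfix; omega
  have hklt : (2 * d + 1) % cc (Fintype.card F) r < cc (Fintype.card F) r :=
    Nat.mod_lt _ hcpos
  have hc2i : cc (Fintype.card F) r ≤ 2 * ordI (Fintype.card F) r := by
    rcases Nat.even_or_odd (ordI (Fintype.card F) r) with he | ho
    · rw [cc_eq_of_even he]; omega
    · rw [cc_eq_of_odd ho]
  have halt : Module.finrank F ↥(W ⊓ fixSp (x : Matrix ι ι F)) < ordI (Fintype.card F) r := by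
    omega
  have ha : m % ordI (Fintype.card F) r = Module.finrank F ↥(W ⊓ fixSp (x : Matrix ι ι F)) := by
    rw [← hWdim, hWsplit, hb, Nat.add_mul_mod_self_left, Nat.mod_eq_of_lt halt]
  have hkeq : (2 * d + 1) % cc (Fintype.card F) r =
      2 * Module.finrank F ↥(W ⊓ fixSp (x : Matrix ι ι F)) := by omega
  rw [hkeq] at hkodd
  exact (Nat.not_odd_iff_even.mpr (even_two_mul _)) hkodd

/-- (D3) `i` even, `n' < t + 2 m'`: the multiplicity free element. -/
theorem der3_of (hSplit : PkgSplit.{u}) (hEx : PkgExSqf.{u}) (hOddOmega : PkgOddOmega.{u})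
    (hWS : PkgWSplit.{u}) (hHalf : PkgTsHalf.{u})
    (Q : (ι → F) → F) (hQ : Cfsg.Geo.IsNondegenerateQuadraticForm Q) (h2 : (2 : F) ≠ 0)
    (r : ℕ) (hr : r.Prime) (hr2 : r ≠ 2) (hrq : ¬ r ∣ Fintype.card F) (hrF : (r : F) ≠ 0)
    (d m : ℕ) (hn : Fintype.card ι = 2 * d + 1) (hmd : m ≤ d)
    (hev : Even (ordI (Fintype.card F) r)) (him : ordI (Fintype.card F) r ≤ m)
    (hbad : (2 * d + 1) / ordI (Fintype.card F) r <
      (r - 1) / ordI (Fintype.card F) r + 2 * (m / ordI (Fintype.card F) r)) :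
    ∃ x : GL ι F, x ∈ Cfsg.Geo.omegaGL Q ∧ orderOf x = r ∧
      ¬ ∃ W : Submodule F (ι → F), Module.finrank F W = m ∧ TS Q W ∧
        Inv (x : Matrix ι ι F) W := by
  have hipos : 0 < ordI (Fintype.card F) r := ordI_pos hr hrq
  have hnodd : Odd (Fintype.card ι) := by rw [hn]; exact ⟨d, rfl⟩
  obtain ⟨t, ht⟩ := order_dvd_pred hr hrq
  have ht' : (r - 1) / ordI (Fintype.card F) r = t := by
    rw [ht]; exact Nat.mul_div_cancel_left t hipos
  have hr2' := hr.two_le
  have ht1 : 1 ≤ t := by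
    rcases Nat.eq_zero_or_pos t with h0 | h0
    · rw [h0, mul_zero] at ht; omega
    · exact h0
  have hmodn := Nat.div_add_mod (2 * d + 1) (ordI (Fintype.card F) r)
  have hmodm := Nat.div_add_mod m (ordI (Fintype.card F) r)
  have hn1 : 1 ≤ (2 * d + 1) / ordI (Fintype.card F) r := Nat.div_pos (by omega) hipos
  have hrem : (2 * d + 1) % ordI (Fintype.card F) r < ordI (Fintype.card F) r :=
    Nat.mod_lt _ hipos
  rw [ht'] at hbad
  -- the number of blocks
  have ha1 : 1 ≤ min t ((2 * d + 1) / ordI (Fintype.card F) r) := le_min ht1 hn1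
  have hale : ordI (Fintype.card F) r * min t ((2 * d + 1) / ordI (Fintype.card F) r) ≤
      ordI (Fintype.card F) r * ((2 * d + 1) / ordI (Fintype.card F) r) :=
    Nat.mul_le_mul_left _ (min_le_right _ _)
  have haev : Even (ordI (Fintype.card F) r *
      min t ((2 * d + 1) / ordI (Fintype.card F) r)) := hev.mul_right _
  have hasucc : ordI (Fintype.card F) r * min t ((2 * d + 1) / ordI (Fintype.card F) r) + 1 ≤
      Fintype.card ι := by
    rw [hn]
    obtain ⟨e, he⟩ := haev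
    omega
  obtain ⟨x, hxiso, hxord, hxfix, hxan⟩ := hEx F ι Q hQ h2 hnodd r hr hr2 hrq hev
    (min t ((2 * d + 1) / ordI (Fintype.card F) r)) ha1
    (by rw [ht']; exact min_le_left _ _) hasucc
  have hrodd : Odd r := hr.odd_of_ne_two hr2
  have hxΩ := hOddOmega F ι Q hQ h2 x hxiso (by rw [hxord]; exact hrodd)
  refine ⟨x, hxΩ, hxord, ?_⟩
  rintro ⟨W, hWdim, hWts, hWinv⟩
  have hS : Std Q r (x : Matrix ι ι F) := std_of hQ h2 hr hr2 hrq hrF hxiso hxord
  obtain ⟨hNdC, -, -, -, -, -⟩ := hSplit F ι Q r (x : Matrix ι ι F) hS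
  obtain ⟨hWNinv, hWsplit⟩ := hWS F ι Q r (x : Matrix ι ι F) hS W hWinv
  have hbot : W ⊓ movSp (x : Matrix ι ι F) = ⊥ :=
    hxan _ inf_le_right hWNinv (fun w hw => hWts w hw.1)
  rw [hbot, finrank_bot, add_zero] at hWsplit
  have hhalf := hHalf F ι Q hQ (fixSp (x : Matrix ι ι F)) (W ⊓ fixSp (x : Matrix ι ι F)) hNdC
    inf_le_right (fun w hw => hWts w hw.1)
  rw [← hWsplit, hWdim] at hhalf
  rw [hn] at hxfix
  rcases le_total t ((2 * d + 1) / ordI (Fintype.card F) r) with h | h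
  · rw [min_eq_left h] at hxfix
    have h3 : t + 2 * (m / ordI (Fintype.card F) r) ≤ (2 * d + 1) / ordI (Fintype.card F) r := by
      rw [Nat.le_div_iff_mul_le hipos, mul_comm, Nat.mul_add, ← mul_assoc,
        mul_comm (ordI (Fintype.card F) r) 2, mul_assoc]
      omega
    omega
  · rw [min_eq_right h] at hxfix
    omega

end

/-! ### The frozen statement -/

/-- The frozen statement of S5972 from the packages. -/
theorem result_of (hQnd : PkgQnd.{u}) (hSplit : PkgSplit.{u}) (hGeom : PkgGeom.{u})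
    (hExist : PkgExist.{u}) (hOddOmega : PkgOddOmega.{u})
    (hCnt : PkgTsCnt.{u}) (hInvLt : PkgInvLt.{u}) (hInvEq : PkgInvEq.{u})
    (hInvNe : PkgInvNe.{u}) (hWS : PkgWSplit.{u}) (hLad : PkgLadder.{u})
    (hHalf : PkgTsHalf.{u}) (hAn : PkgAniso.{u}) (hAnO : PkgAnOdd.{u}) (hAnE : PkgAnEven.{u})
    (hEx : PkgExSqf.{u})
    {F : Type u} [Field F] [Fintype F] {p : ℕ} [Fact p.Prime] [CharP F p] {q : ℕ} (hq : Fintype.card F = q) (hqodd : Odd q)
    (d m : ℕ) (hd : 3 ≤ d) (hm : 1 ≤ m) (hmd : m ≤ d)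
    (r : ℕ) [Fact r.Prime]
    (hrΩ : r ∣ Nat.card {W : Submodule F (Unit ⊕ (Fin d ⊕ Fin d) → F) // Module.finrank F ↥W = m ∧ (∀ w ∈ W, Cfsg.quadFormOdd d F w = 0)})
    (i c : ℕ) (hi : i = orderOf (q : ZMod r)) (hc : c = if Even i then i else 2 * i) :
    (∀ x : GL (Unit ⊕ (Fin d ⊕ Fin d)) F, x ∈ Cfsg.Geo.omegaGL (Cfsg.quadFormOdd d F) → orderOf x = r →
      ∃ W : Submodule F (Unit ⊕ (Fin d ⊕ Fin d) → F), Module.finrank F ↥W = m ∧ (∀ w ∈ W, Cfsg.quadFormOdd d F w = 0) ∧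
        W.map (Matrix.toLin' (x : Matrix (Unit ⊕ (Fin d ⊕ Fin d)) (Unit ⊕ (Fin d ⊕ Fin d)) F)) ≤ W) ↔
    ((r = 2 ∧ (m < d ∨ q % 4 = 1)) ∨
     (r ≠ p ∧ 2 < r ∧ i ≤ m ∧ 2 * (m % i) < (2 * d + 1) % c ∧ (Odd i ∨ (r - 1) / i + 2 * (m / i) ≤ (2 * d + 1) / i))) := by
  subst hq
  have h2 : (2 : F) ≠ 0 := by
    apply Ring.two_ne_zero
    intro hc2
    have := FiniteField.even_card_of_char_two hc2
    rw [Nat.odd_iff] at hqodd
    omega
  have hQ := hQnd F h2 d
  have hrpr : r.Prime := Fact.out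
  have hpp : p.Prime := Fact.out
  have hn : Fintype.card (Unit ⊕ (Fin d ⊕ Fin d)) = 2 * d + 1 := by
    simp; omega
  have hiI : i = ordI (Fintype.card F) r := hi
  have hcc : c = cc (Fintype.card F) r := by rw [hc, hiI]; rfl
  by_cases hr2 : r = 2
  · have hne : ¬ (r ≠ p ∧ 2 < r ∧ i ≤ m ∧ 2 * (m % i) < (2 * d + 1) % c ∧
        (Odd i ∨ (r - 1) / i + 2 * (m / i) ≤ (2 * d + 1) / i)) := by
      rintro ⟨-, h, -⟩; omega
    constructor
    · intro hall
      left
      refine ⟨hr2, ?_⟩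
      by_contra hcon
      push Not at hcon
      have hq3 : Fintype.card F % 4 = 3 := by
        obtain ⟨t, ht⟩ := hqodd
        omega
      have hmd' : m = d := by omega
      obtain ⟨x, hxΩ, hxord, hxno⟩ := hInvNe F hq3 d (by omega)
      apply hxno
      obtain ⟨W, hW1, hW2, hW3⟩ := hall x hxΩ (by rw [hxord, hr2])
      exact ⟨W, by rw [hW1, hmd'], hW2, hW3⟩
    · rintro (⟨-, hcase⟩ | hcase) x hx hxr
      · have hx2 : x ^ 2 = 1 := by rw [← hr2, ← hxr]; exact pow_orderOf_eq_one x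
        by_cases hlt : m < d
        · exact hInvLt F _ _ hQ h2 x (mem_iso_of_mem_omega hx) hx2 d m hn hlt
        · have hmd' : m = d := by omega
          have hq1 : Fintype.card F % 4 = 1 := by
            rcases hcase with h | h
            · exact absurd h hlt
            · exact h
          obtain ⟨W, hW1, hW2, hW3⟩ := hInvEq F _ _ hQ hq1 x hx hx2 d hn
          exact ⟨W, by rw [hW1, hmd'], hW2, hW3⟩
      · exact absurd hcase hne
  · have hr3 : 2 < r := by have := hrpr.two_le; omega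
    have hrp : r ≠ p := by
      rintro rfl
      exact not_char_dvd_ts hCnt h2 r d m hmd hrΩ
    have hrq : ¬ r ∣ Fintype.card F := by
      intro h
      obtain ⟨k, hp, hk⟩ := FiniteField.card F p
      rw [hk] at h
      exact hrp ((Nat.prime_dvd_prime_iff_eq hrpr hp).mp (hrpr.dvd_of_dvd_pow h))
    have hrF : (r : F) ≠ 0 := by
      intro h
      rw [CharP.cast_eq_zero_iff F p] at h
      exact hrp ((Nat.prime_dvd_prime_iff_eq hpp hrpr).mp h).symm
    have hipos : 0 < ordI (Fintype.card F) r := ordI_pos hrpr hrq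
    rw [hcc, hiI]
    constructor
    · intro hall
      right
      by_contra hnot
      by_cases hlk : 2 * (m % ordI (Fintype.card F) r) < (2 * d + 1) % cc (Fintype.card F) r
      · by_cases him : ordI (Fintype.card F) r ≤ m
        · have hev : Even (ordI (Fintype.card F) r) := by
            by_contra hodd
            exact hnot ⟨hrp, hr3, him, hlk, Or.inl (Nat.not_even_iff_odd.mp hodd)⟩
          have hbad : (2 * d + 1) / ordI (Fintype.card F) r <
              (r - 1) / ordI (Fintype.card F) r + 2 * (m / ordI (Fintype.card F) r) := by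
            by_contra hle
            push Not at hle
            exact hnot ⟨hrp, hr3, him, hlk, Or.inr hle⟩
          obtain ⟨x, hxΩ, hxord, hxno⟩ := der3_of hSplit hEx hOddOmega hWS hHalf
            (Cfsg.quadFormOdd d F) hQ h2 r hrpr hr2 hrq hrF d m hn hmd hev him hbad
          exact hxno (hall x hxΩ hxord)
        · push Not at him
          rw [Nat.mod_eq_of_lt him] at hlk
          exact not_dvd_ts_of_lt hCnt h2 r hrq d m hmd hlk hrΩ
      · push Not at hlk
        obtain ⟨x, hxΩ, hxord, hxno⟩ := der1_of hSplit hExist hOddOmega hWS hLad hHalf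
          (Cfsg.quadFormOdd d F) hQ h2 r hrpr hr2 hrq hrF d m hn hmd hlk
        exact hxno (hall x hxΩ hxord)
    · rintro (⟨h, -⟩ | ⟨-, -, -, hlk, hlast⟩) x hx hxr
      · exact absurd h hr2
      · have hxiso := mem_iso_of_mem_omega hx
        have hS := std_of hQ h2 hrpr hr2 hrq hrF hxiso hxr
        exact fix_of hSplit hGeom hLad hAn hAnO hAnE (Cfsg.quadFormOdd d F) r _ hS d m hn hmd
          hlk hlast

end Cfsg.Agent.Lib.Helper35.OTS
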