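-- Team project OTS (S5972), package [ANEVEN]: the anisotropic part is cyclic (helper35).
import Mathlib
import Cfsg.Agent.Lib.Helper35.OTS.Defs
import Cfsg.Agent.Lib.Helper35.OTS.Asm
import Cfsg.Agent.Lib.Helper27.OHyp.BlkBasic
import Cfsg.Agent.Lib.Helper76.OHyp.Cyc
import Cfsg.Agent.Lib.Helper76.OHyp.Maschke
import Cfsg.Agent.Lib.Helper87.OHyp.Perp
import Cfsg.Agent.Lib.Helper38.OHyp.IrrDim

set_option autoImplicit false
open Matrix

namespace Cfsg.Agent.Lib.Helper35.OTS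

open Cfsg.Agent.Lib.Helper23.OHyp

universe u

section

variable {F : Type u} [Field F] {ι : Type} [Fintype ι] [DecidableEq ι]

theorem inv_sup2 {x : Matrix ι ι F} {W₁ W₂ : Submodule F (ι → F)} (h1 : Inv x W₁)
    (h2 : Inv x W₂) : Inv x (W₁ ⊔ W₂) := by
  unfold Cfsg.Agent.Lib.Helper23.OHyp.Inv at *
  rw [Submodule.map_sup]
  exact sup_le_sup h1 h2

theorem inv_inf2 {x : Matrix ι ι F} {W₁ W₂ : Submodule F (ι → F)} (h1 : Inv x W₁)
    (h2 : Inv x W₂) : Inv x (W₁ ⊓ W₂) := by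
  apply Cfsg.Agent.Lib.Helper27.OHyp.inv_of_mulVec_blk
  intro u hu
  exact ⟨Cfsg.Agent.Lib.Helper27.OHyp.inv_mulVec_blk h1 hu.1,
    Cfsg.Agent.Lib.Helper27.OHyp.inv_mulVec_blk h2 hu.2⟩

theorem polar_self_eq {Q : (ι → F) → F} (hQ : Cfsg.Geo.IsNondegenerateQuadraticForm Q)
    (v : ι → F) : QuadraticMap.polar Q v v = 2 * Q v := by
  unfold QuadraticMap.polar
  have h : v + v = (2 : F) • v := by rw [two_smul]
  rw [h, hQ.smul]
  ring

theorem ts_of_perp_self {Q : (ι → F) → F} (hQ : Cfsg.Geo.IsNondegenerateQuadraticForm Q)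
    (h2 : (2 : F) ≠ 0) {W : Submodule F (ι → F)} (h : Perp Q W W) : TS Q W := by
  intro v hv
  have h1 := h v hv v hv
  rw [polar_self_eq hQ] at h1
  exact (mul_eq_zero.1 h1).resolve_left h2

end

section

variable {F : Type u} [Field F] [Fintype F] {ι : Type} [Fintype ι] [DecidableEq ι]

/-- In an anisotropic subspace every invariant subspace is nondegenerate. -/
theorem nd_of_aniso {Q : (ι → F) → F} {r : ℕ} {x : Matrix ι ι F} (hS : Std Q r x)
    {A Z : Submodule F (ι → F)} (hAan : Aniso Q x A) (hZA : Z ≤ A) (hZ : Inv x Z) : Nd Q Z := by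
  have hQ := hS.nondeg
  have hr : 0 < r := hS.prime.pos
  have hRinv : Inv x (Z ⊓ Cfsg.Agent.Lib.Helper27.OHyp.orthBlk Q hQ Z) :=
    inv_inf2 hZ (Cfsg.Agent.Lib.Helper27.OHyp.inv_orthBlk hQ hr hS.pow hS.isom hZ)
  have hRts : TS Q (Z ⊓ Cfsg.Agent.Lib.Helper27.OHyp.orthBlk Q hQ Z) := by
    intro v hv
    have h1 : QuadraticMap.polar Q v v = 0 := hv.2 v hv.1
    rw [polar_self_eq hQ] at h1
    exact (mul_eq_zero.1 h1).resolve_left hS.two
  have hR : Z ⊓ Cfsg.Agent.Lib.Helper27.OHyp.orthBlk Q hQ Z = ⊥ :=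
    hAan _ (inf_le_left.trans hZA) hRinv hRts
  intro w hw hw0
  have hex : ∃ u ∈ Z, QuadraticMap.polar Q u w ≠ 0 := by
    by_contra hcon
    push Not at hcon
    have hmem : w ∈ Z ⊓ Cfsg.Agent.Lib.Helper27.OHyp.orthBlk Q hQ Z := ⟨hw, hcon⟩
    rw [hR] at hmem
    exact hw0 ((Submodule.mem_bot F).1 hmem)
  obtain ⟨u, hu, hne⟩ := hex
  exact ⟨⟨u, hu, hne⟩, ⟨u, hu, by rwa [QuadraticMap.polar_comm]⟩⟩

end

/-- [ANEVEN] from [ISO2] and [LADDER]. -/
theorem pkgAnEven_of (hIso : PkgIso2.{u}) (hLad : PkgLadder.{u}) : PkgAnEven.{u} := by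
  intro F _ _ ι _ _ Q r x hS hev A hAN hAinv hAnd hAan
  classical
  have hQ := hS.nondeg
  have hrpos : 0 < r := hS.prime.pos
  have hipos : 0 < ordI (Fintype.card F) r := ordI_pos hS.prime hS.ndvd
  have hdet : IsUnit x.det := by
    have hxu : IsUnit x := IsUnit.of_pow_eq_one hS.pow hrpos.ne'
    exact (Matrix.isUnit_iff_isUnit_det x).1 hxu
  -- a cyclic subspace of maximal dimension
  obtain ⟨w, hwA, hwmax⟩ : ∃ w ∈ A, ∀ w' ∈ A,
      Module.finrank F (Cfsg.Agent.Lib.Helper59.OHyp.cycSp x w') ≤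
        Module.finrank F (Cfsg.Agent.Lib.Helper59.OHyp.cycSp x w) := by
    let P : ℕ → Prop := fun k => ∃ w ∈ A,
      Module.finrank F (Cfsg.Agent.Lib.Helper59.OHyp.cycSp x w) = k
    have hb : ∀ w : ι → F, Module.finrank F (Cfsg.Agent.Lib.Helper59.OHyp.cycSp x w) ≤
        Module.finrank F (ι → F) := fun w => Submodule.finrank_le _
    have hP0 : P (Module.finrank F (Cfsg.Agent.Lib.Helper59.OHyp.cycSp x (0 : ι → F))) :=
      ⟨0, A.zero_mem, rfl⟩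
    obtain ⟨w, hwA, hw⟩ := Nat.findGreatest_spec (P := P) (hb 0) hP0
    refine ⟨w, hwA, fun w' hw' => ?_⟩
    rw [hw]
    exact Nat.le_findGreatest (hb w') ⟨w', hw', rfl⟩
  obtain ⟨hZinv, hwZ, hZmin, hZdeg⟩ := Cfsg.Agent.Lib.Helper76.OHyp.pkgCyc F ι x w
  have hZA : Cfsg.Agent.Lib.Helper59.OHyp.cycSp x w ≤ A := hZmin A hAinv hwA
  have hZN : Cfsg.Agent.Lib.Helper59.OHyp.cycSp x w ≤ movSp x := hZA.trans hAN
  obtain ⟨t, ht⟩ := order_dvd_pred hS.prime hS.ndvd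
  have hi2 : 2 ≤ ordI (Fintype.card F) r := by obtain ⟨e, he⟩ := hev; omega
  have hr2 := hS.prime.two_le
  -- `finrank Z ≤ r - 1`
  have hZle : Module.finrank F (Cfsg.Agent.Lib.Helper59.OHyp.cycSp x w) ≤ r - 1 := by
    have h1 : Module.finrank F (Cfsg.Agent.Lib.Helper59.OHyp.cycSp x w) ≤ r := by
      have hg : (Polynomial.X ^ r - Polynomial.C (1 : F)) ≠ 0 :=
        Polynomial.X_pow_sub_C_ne_zero hrpos 1
      have h := hZdeg (Polynomial.X ^ r - Polynomial.C (1 : F)) hg (by simp [hS.pow])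
      rwa [Polynomial.natDegree_X_pow_sub_C] at h
    obtain ⟨⟨b, hb⟩, -⟩ := hLad F ι Q r x hS _ hZN hZinv
    have hbt : b ≤ t := by
      by_contra hcon
      push Not at hcon
      have h3 : ordI (Fintype.card F) r * (t + 1) ≤ ordI (Fintype.card F) r * b :=
        Nat.mul_le_mul_left _ hcon
      rw [Nat.mul_add, mul_one] at h3
      omega
    have h4 := Nat.mul_le_mul_left (ordI (Fintype.card F) r) hbt
    omega
  by_cases hZeq : Cfsg.Agent.Lib.Helper59.OHyp.cycSp x w = A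
  · rw [← hZeq]; exact hZle
  exfalso
  have hZnd : Nd Q (Cfsg.Agent.Lib.Helper59.OHyp.cycSp x w) := nd_of_aniso hS hAan hZA hZinv
  obtain ⟨Z', hZ'A, hZ'inv, hZ'nd, hperp, hsup, hdims⟩ :=
    Cfsg.Agent.Lib.Helper87.OHyp.pkgPerp F ι Q hQ x hS.isom hdet A _ hZA hAinv hZinv hAnd hZnd
  have hZ'ne : Z' ≠ ⊥ := by
    intro h
    rw [h, sup_bot_eq] at hsup
    exact hZeq hsup
  obtain ⟨U', hU'Z', hU'min⟩ := Cfsg.Agent.Lib.Helper27.OHyp.pkgMinEx F ι x Z' hZ'inv hZ'ne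
  obtain ⟨hU'inv, hU'ne, hU'minimal⟩ := hU'min
  obtain ⟨u', hu'U', hu'0⟩ := Submodule.exists_mem_ne_zero_of_ne_bot hU'ne
  have hU'A : U' ≤ A := hU'Z'.trans hZ'A
  have hU'N : U' ≤ movSp x := hU'A.trans hAN
  have hZZ' : Cfsg.Agent.Lib.Helper59.OHyp.cycSp x w ⊓ Z' = ⊥ := by
    rw [eq_bot_iff]
    intro v hv
    rw [Submodule.mem_bot]
    by_contra hv0
    obtain ⟨⟨u, hu, hne⟩, -⟩ := hZnd v hv.1 hv0
    exact hne (hperp u hu v hv.2)
  have hZU' : Cfsg.Agent.Lib.Helper59.OHyp.cycSp x w ⊓ U' = ⊥ := by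
    rw [eq_bot_iff, ← hZZ']
    exact inf_le_inf_left _ hU'Z'
  obtain ⟨hZ₂inv, hwZ₂, hZ₂min, -⟩ := Cfsg.Agent.Lib.Helper76.OHyp.pkgCyc F ι x (w + u')
  have hZU'inv : Inv x (Cfsg.Agent.Lib.Helper59.OHyp.cycSp x w ⊔ U') := inv_sup2 hZinv hU'inv
  have hZ₂le : Cfsg.Agent.Lib.Helper59.OHyp.cycSp x (w + u') ≤
      Cfsg.Agent.Lib.Helper59.OHyp.cycSp x w ⊔ U' :=
    hZ₂min _ hZU'inv (Submodule.add_mem _ (Submodule.mem_sup_left hwZ)
      (Submodule.mem_sup_right hu'U'))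
  have hmax := hwmax (w + u') (A.add_mem hwA (hU'A hu'U'))
  have hU'pos : 0 < Module.finrank F U' :=
    Nat.pos_of_ne_zero (fun h => hU'ne (Submodule.finrank_eq_zero.1 h))
  have hsumZU' : Module.finrank F ↥(Cfsg.Agent.Lib.Helper59.OHyp.cycSp x w ⊔ U') =
      Module.finrank F (Cfsg.Agent.Lib.Helper59.OHyp.cycSp x w) + Module.finrank F U' := by
    have h := Submodule.finrank_sup_add_finrank_inf_eq (Cfsg.Agent.Lib.Helper59.OHyp.cycSp x w) U'
    rw [hZU', finrank_bot, add_zero] at h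
    exact h
  have hZ₂U' : Cfsg.Agent.Lib.Helper59.OHyp.cycSp x (w + u') ⊓ U' = ⊥ := by
    rcases hU'minimal _ inf_le_right (inv_inf2 hZ₂inv hU'inv) with h | h
    · exact h
    · exfalso
      have hU'Z₂ : U' ≤ Cfsg.Agent.Lib.Helper59.OHyp.cycSp x (w + u') := by
        rw [← h]; exact inf_le_left
      have hwin : w ∈ Cfsg.Agent.Lib.Helper59.OHyp.cycSp x (w + u') := by
        have h5 := Submodule.sub_mem _ hwZ₂ (hU'Z₂ hu'U')
        simpa using h5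
      have hZZ₂ := hZmin _ hZ₂inv hwin
      have h6 := Submodule.finrank_mono (sup_le hZZ₂ hU'Z₂)
      omega
  have hsup2 : Cfsg.Agent.Lib.Helper59.OHyp.cycSp x (w + u') ⊔ U' =
      Cfsg.Agent.Lib.Helper59.OHyp.cycSp x w ⊔ U' := by
    apply le_antisymm (sup_le hZ₂le le_sup_right)
    have hwin : w ∈ Cfsg.Agent.Lib.Helper59.OHyp.cycSp x (w + u') ⊔ U' := by
      have h5 := Submodule.sub_mem _ (Submodule.mem_sup_left (T := U') hwZ₂)
        (Submodule.mem_sup_right (S := Cfsg.Agent.Lib.Helper59.OHyp.cycSp x (w + u')) hu'U')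
      simpa using h5
    exact sup_le (hZmin _ (inv_sup2 hZ₂inv hU'inv) hwin) le_sup_right
  have hZ₂dim : Module.finrank F (Cfsg.Agent.Lib.Helper59.OHyp.cycSp x (w + u')) =
      Module.finrank F (Cfsg.Agent.Lib.Helper59.OHyp.cycSp x w) := by
    have h := Submodule.finrank_sup_add_finrank_inf_eq
      (Cfsg.Agent.Lib.Helper59.OHyp.cycSp x (w + u')) U'
    rw [hZ₂U', finrank_bot, add_zero, hsup2, hsumZU'] at h
    omega
  have hK₀inv : Inv x (Cfsg.Agent.Lib.Helper59.OHyp.cycSp x (w + u') ⊓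
      Cfsg.Agent.Lib.Helper59.OHyp.cycSp x w) := inv_inf2 hZ₂inv hZinv
  obtain ⟨U, hUZ, hUinv, hKU, hKUsup⟩ := Cfsg.Agent.Lib.Helper76.OHyp.pkgMaschke F ι r x hS.ne
    hS.pow (Cfsg.Agent.Lib.Helper59.OHyp.cycSp x w) _ inf_le_right hZinv hK₀inv
  have hUne : U ≠ ⊥ := by
    intro h
    rw [h, sup_bot_eq] at hKUsup
    have hZZ₂ : Cfsg.Agent.Lib.Helper59.OHyp.cycSp x w ≤
        Cfsg.Agent.Lib.Helper59.OHyp.cycSp x (w + u') := by
      rw [← hKUsup]; exact inf_le_left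
    have hu'in : u' ∈ Cfsg.Agent.Lib.Helper59.OHyp.cycSp x (w + u') ⊓ U' := by
      refine ⟨?_, hu'U'⟩
      have h5 := Submodule.sub_mem _ hwZ₂ (hZZ₂ hwZ)
      simpa using h5
    rw [hZ₂U'] at hu'in
    exact hu'0 ((Submodule.mem_bot F).1 hu'in)
  have hUdimle : Module.finrank F U ≤ Module.finrank F U' := by
    have h1 := Submodule.finrank_sup_add_finrank_inf_eq
      (Cfsg.Agent.Lib.Helper59.OHyp.cycSp x (w + u') ⊓ Cfsg.Agent.Lib.Helper59.OHyp.cycSp x w) U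
    rw [hKU, finrank_bot, add_zero, hKUsup] at h1
    have h2 := Submodule.finrank_sup_add_finrank_inf_eq
      (Cfsg.Agent.Lib.Helper59.OHyp.cycSp x (w + u')) (Cfsg.Agent.Lib.Helper59.OHyp.cycSp x w)
    have h3 : Module.finrank F ↥(Cfsg.Agent.Lib.Helper59.OHyp.cycSp x (w + u') ⊔
        Cfsg.Agent.Lib.Helper59.OHyp.cycSp x w) ≤
        Module.finrank F ↥(Cfsg.Agent.Lib.Helper59.OHyp.cycSp x w ⊔ U') :=
      Submodule.finrank_mono (sup_le hZ₂le le_sup_left)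
    omega
  have hU'dim : Module.finrank F U' = ordI (Fintype.card F) r :=
    Cfsg.Agent.Lib.Helper38.OHyp.pkgIrrDim F ι Q r x hS U' hU'N ⟨hU'inv, hU'ne, hU'minimal⟩
  have hUN : U ≤ movSp x := hUZ.trans hZN
  obtain ⟨⟨bU, hbU⟩, -⟩ := hLad F ι Q r x hS U hUN hUinv
  have hUpos : 0 < Module.finrank F U :=
    Nat.pos_of_ne_zero (fun h => hUne (Submodule.finrank_eq_zero.1 h))
  have hUdim : Module.finrank F U = ordI (Fintype.card F) r := by
    have hb1 : bU = 1 := by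
      rcases Nat.lt_or_ge bU 2 with h | h
      · rcases Nat.eq_zero_or_pos bU with h0 | h0
        · rw [h0, mul_zero] at hbU; omega
        · omega
      · have h7 := Nat.mul_le_mul_left (ordI (Fintype.card F) r) h
        omega
    rw [hbU, hb1, mul_one]
  have hUmin : Cfsg.Agent.Lib.Helper27.OHyp.Min x U := by
    refine ⟨hUinv, hUne, fun U₁ hU₁ hU₁inv => ?_⟩
    obtain ⟨⟨b₁, hb₁⟩, -⟩ := hLad F ι Q r x hS U₁ (hU₁.trans hUN) hU₁inv
    have hle := Submodule.finrank_mono hU₁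
    rcases Nat.eq_zero_or_pos b₁ with h0 | h0
    · left
      rw [h0, mul_zero] at hb₁
      exact Submodule.finrank_eq_zero.1 hb₁
    · right
      have h8 : ordI (Fintype.card F) r * 1 ≤ ordI (Fintype.card F) r * b₁ :=
        Nat.mul_le_mul_left _ h0
      apply Submodule.eq_of_le_of_finrank_le hU₁
      omega
  have hUU'inv : Inv x (U ⊔ U') := inv_sup2 hUinv hU'inv
  have hΓinv : Inv x (Cfsg.Agent.Lib.Helper59.OHyp.cycSp x (w + u') ⊓ (U ⊔ U')) :=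
    inv_inf2 hZ₂inv hUU'inv
  have hΓU' : Cfsg.Agent.Lib.Helper59.OHyp.cycSp x (w + u') ⊓ (U ⊔ U') ⊓ U' = ⊥ := by
    rw [eq_bot_iff, ← hZ₂U']
    exact le_inf (inf_le_left.trans inf_le_left) inf_le_right
  have hΓU : Cfsg.Agent.Lib.Helper59.OHyp.cycSp x (w + u') ⊓ (U ⊔ U') ⊓ U = ⊥ := by
    rw [eq_bot_iff, ← hKU]
    exact le_inf (le_inf (inf_le_left.trans inf_le_left) (inf_le_right.trans hUZ)) inf_le_right
  have hUU' : U ⊓ U' = ⊥ := by
    rw [eq_bot_iff, ← hZU']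
    exact inf_le_inf_right _ hUZ
  have hΓne : Cfsg.Agent.Lib.Helper59.OHyp.cycSp x (w + u') ⊓ (U ⊔ U') ≠ ⊥ := by
    intro h
    have h1 := Submodule.finrank_sup_add_finrank_inf_eq
      (Cfsg.Agent.Lib.Helper59.OHyp.cycSp x (w + u')) (U ⊔ U')
    rw [h, finrank_bot, add_zero] at h1
    have h2 := Submodule.finrank_sup_add_finrank_inf_eq U U'
    rw [hUU', finrank_bot, add_zero] at h2
    have h3 : Module.finrank F ↥(Cfsg.Agent.Lib.Helper59.OHyp.cycSp x (w + u') ⊔ (U ⊔ U')) ≤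
        Module.finrank F ↥(Cfsg.Agent.Lib.Helper59.OHyp.cycSp x w ⊔ U') :=
      Submodule.finrank_mono (sup_le hZ₂le (sup_le (hUZ.trans le_sup_left) le_sup_right))
    omega
  have hperpUU' : Perp Q U U' := fun u hu v hv => hperp u (hUZ hu) v (hU'Z' hv)
  obtain ⟨W, hWle, hWne, hWinv, hWts⟩ := hIso F ι Q r x hS hev U U' _ hUN hU'N hUmin
    ⟨hU'inv, hU'ne, hU'minimal⟩ hperpUU' hΓinv inf_le_right hΓne hΓU hΓU'
  exact hWne (hAan W (hWle.trans (sup_le (hUZ.trans hZA) hU'A)) hWinv hWts)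

end Cfsg.Agent.Lib.Helper35.OTS
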